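import Groth.Prelude.Def_W4c2movlemaddchowShuffle
import Mathlib

/-!
Sorting a permutation on one block.
-/

namespace Groth.Agent.ShuffleLib

open Equiv

variable {a n : ℕ}

/-- Factoring a permutation as "monotone on the block `e`" times "supported on the block". -/
theorem bijOn_block (e : Fin a ↪ Fin n) (ext : Perm (Fin a) → Perm (Fin n))
    (hext : ∀ σ i, ext σ (e i) = e (σ i)) (hfix : ∀ σ x, x ∉ Set.range e → ext σ x = x)
    (P : Perm (Fin n) → Prop) (Q : Perm (Fin a) → Prop) (R : Perm (Fin n) → Prop)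
    (hP : ∀ τ, P τ → StrictMono (fun i => τ (e i)))
    (hR : ∀ τ σ, StrictMono (fun i => τ (e i)) → (R (τ * ext σ) ↔ P τ ∧ Q σ)) :
    Set.BijOn (fun p : Perm (Fin n) × Perm (Fin a) => p.1 * ext p.2) ({τ | P τ} ×ˢ {σ | Q σ}) {ν | R ν} := by
  refine ⟨fun p hp => (hR _ _ (hP _ hp.1)).2 hp, ?_, ?_⟩
  · rintro ⟨τ, σ⟩ hp ⟨τ', σ'⟩ hp' h
    have h1 := hP _ hp.1
    have h2 := hP _ hp'.1
    simp only at h h1 h2
    have key : ∀ i, τ (e (σ i)) = τ' (e (σ' i)) := fun i => by
      have := DFunLike.congr_fun h (e i)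
      simpa [hext] using this
    have he : (fun i => τ (e i)) = fun i => τ' (e i) := by
      refine StrictMono.range_inj h1 h2 |>.1 ?_
      ext y
      constructor
      · rintro ⟨i, rfl⟩; exact ⟨σ' (σ.symm i), by simpa using (key (σ.symm i)).symm⟩
      · rintro ⟨i, rfl⟩; exact ⟨σ (σ'.symm i), by simpa using key (σ'.symm i)⟩
    have hσ : σ = σ' := Equiv.ext fun i => h1.injective ((key i).trans (congrFun he (σ' i)).symm)
    subst hσ
    exact Prod.ext (mul_right_cancel h) rfl
  · intro ν hν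
    obtain ⟨π, hπ⟩ : ∃ π : Perm (Fin a), StrictMono (fun i => ν (e (π i))) := by
      refine ⟨Tuple.sort (fun i => ν (e i)), ?_⟩
      exact (Tuple.monotone_sort _).strictMono_of_injective
        ((ν.injective.comp e.injective).comp (Equiv.injective _))
    refine ⟨(ν * (ext π.symm)⁻¹, π.symm), ?_, by simp⟩
    have h1 : ∀ i, (ν * (ext π.symm)⁻¹) (e i) = ν (e (π i)) := by
      intro i
      rw [Perm.mul_apply]
      congr 1
      rw [Perm.inv_eq_iff_eq, hext, symm_apply_apply]
    have hs : StrictMono fun i => (ν * (ext π.symm)⁻¹) (e i) := by simpa only [h1] using hπ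
    exact (hR _ π.symm hs).1 (by simpa using hν)

end Groth.Agent.ShuffleLib
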